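import Cfsg.Agent.H144.AH.Base
import Cfsg.Agent.H330.ClassSub
import Cfsg.Agent.H27.AH.Main

/-!
# S2451 (A) for `PSp_2m(q)` (helper144)

`notA_psp` : there are no `p`-regular `a, b, c ≠ 1` in `PSp_2m(q)` such that all products of conjugates of `a` and `b` are
conjugate to `c`. Every `p`-subgroup `X` centralising a nonscalar `p`-regular isometry fixes a totally isotropic plane
pointwise (`exists_ti`).
-/

set_option autoImplicit false
set_option linter.unusedSectionVars false

namespace Cfsg.Agent.H144.AH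

open Module Cfsg Cfsg.Agent.H955 Cfsg.Agent.H105.Sz Cfsg.Agent.H105.SzSp
open Cfsg.Agent.ClassicalGeometry.SympBasic Cfsg.Agent.LieClassical.OrthFinite

section ti

variable {F V : Type*} [Field F] [Finite F] [AddCommGroup V] [Module F V] [FiniteDimensional F V]
  {B : LinearMap.BilinForm F V} {p : ℕ} [hp : Fact p.Prime] [CharP F p]

/-- a totally isotropic pair exists -/
theorem exists_pair (h : IsSp B) (hn : 4 ≤ finrank F V) : ∃ v w : V, LinearIndependent F ![v, w] ∧ B v w = 0 := by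
  have : Nontrivial V := Module.nontrivial_of_finrank_pos (R := F) (by omega)
  obtain ⟨v, hv⟩ := exists_ne (0 : V)
  obtain ⟨w, hw, hw'⟩ := exists_notMem (W := Submodule.span F {v}) (W' := LinearMap.ker (B v)) (by
    have h1 := finrank_span_single_le (F := F) v
    have h2 := finrank_ker h hv
    omega)
  exact ⟨v, w, indep_of_notMem hv hw', hw⟩

/-- **a `p`-group commuting with a nonscalar `p`-regular isometry fixes a totally isotropic plane pointwise** -/
theorem exists_ti (h : IsSp B) (hn : 4 ≤ finrank F V) {a : IsoB B} {N : ℕ} (hN : ¬ p ∣ N) (haN : a.1 ^ N = 1)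
    (hna : ¬ Scalar a.1) {X : Subgroup (IsoB B)} (hX : IsPGroup p X) (hXa : ∀ x ∈ X, x * a = a * x) :
    ∃ v w : V, LinearIndependent F ![v, w] ∧ B v w = 0 ∧ (∀ x ∈ X, x.1 v = v) ∧ (∀ x ∈ X, x.1 w = w) := by
  have hnt : Nontrivial V := Module.nontrivial_of_finrank_pos (R := F) (by omega)
  have hcomm : ∀ x ∈ X, ∀ v, x.1 (a.1 v) = a.1 (x.1 v) := fun x hx v =>
    congrArg (fun g : IsoB B => g.1 v) (hXa x hx)
  by_cases htop : fx X = ⊤
  · obtain ⟨v, w, h1, h2⟩ := exists_pair h hn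
    have h3 : ∀ v, v ∈ fx X := fun v => by rw [htop]; trivial
    exact ⟨v, w, h1, h2, h3 v, h3 w⟩
  -- the radical
  have hXinv : ∀ x ∈ X, ∀ v, x.1 v ∈ orth B (fx X) ↔ v ∈ orth B (fx X) := by
    intro x hx v
    constructor
    · intro h1 u hu
      have h2 := h1 u hu
      have h3 := x.2 u v
      rw [hu x hx, h2] at h3
      exact h3.symm
    · intro h1 u hu
      have h2 := h1 u hu
      have h3 := x.2 u v
      rw [hu x hx, h2] at h3
      exact h3
  have hne : orth B (fx X) ≠ ⊥ := by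
    intro h0
    apply htop
    rw [Submodule.eq_top_iff']
    intro v x hx
    by_contra hxv
    have h1 : x.1 v - v ∈ orth B (fx X) := by
      intro u hu
      have h3 := x.2 u v
      rw [hu x hx] at h3
      rw [map_sub, h3, sub_self]
    rw [h0, Submodule.mem_bot, sub_eq_zero] at h1
    exact hxv h1
  obtain ⟨r, hr, hr0, hrX⟩ := exists_fixed_vec hX hne (fun x hx v hv => (hXinv x hx v).2 hv)
  -- a second fixed vector
  by_cases h2 : ∃ r' : V, r' ∉ Submodule.span F {r} ∧ r' ∈ fx X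
  · obtain ⟨r', h3, h4⟩ := h2
    refine ⟨r, r', indep_of_notMem hr0 h3, ?_, hrX, h4⟩
    rw [h.swap, hr r' h4, neg_zero]
  exfalso
  push Not at h2
  have h3 : ∀ v ∈ fx X, v ∈ Submodule.span F {r} := fun v hv => by
    by_contra h4
    exact h2 v h4 hv
  -- `a r = l r`
  obtain ⟨l, hl⟩ : ∃ l : F, a.1 r = l • r := by
    have h4 : a.1 r ∈ fx X := fun x hx => by rw [hcomm x hx, hrX x hx]
    obtain ⟨l, hl⟩ := Submodule.mem_span_singleton.1 (h3 _ h4)
    exact ⟨l, hl.symm⟩
  let f : V →ₗ[F] V := (a.1 : V →ₗ[F] V) - l • LinearMap.id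
  have hf : ∀ v, f v = a.1 v - l • v := fun v => rfl
  have him : LinearMap.range f ≠ ⊥ := by
    intro h0
    apply hna
    refine ⟨l, fun v => ?_⟩
    have h4 : f v ∈ LinearMap.range f := ⟨v, rfl⟩
    rw [h0, Submodule.mem_bot, hf, sub_eq_zero] at h4
    exact h4
  obtain ⟨z, hz, hz0, hzX⟩ := exists_fixed_vec hX him (by
    rintro x hx _ ⟨v, rfl⟩
    exact ⟨x.1 v, by rw [hf, hf, map_sub, map_smul, hcomm x hx]⟩)
  obtain ⟨y, hy⟩ := hz
  rw [hf] at hy
  obtain ⟨s, hs⟩ := Submodule.mem_span_singleton.1 (h3 z hzX)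
  apply hz0
  refine semis (p := p) hN haN (l := l) (y := y) (z := z) ?_ ?_
  · rw [← hy]; abel
  · rw [← hs, map_smul, hl, smul_comm]

end ti

/-- **S2451 (A) for `PSp`** -/
theorem notA_psp {p : ℕ} [hp : Fact p.Prime] (F : Type) [Field F] [Fintype F] [CharP F p] (m : ℕ) (hm : 2 ≤ m)
    (h3 : m = 2 → 3 ≤ Fintype.card F) : H27.AH.NotA p (PSp m F) := by
  have hB : IsSp (F := F) (V := Fin m ⊕ Fin m → F) (sympBilin m F) := isSp_sympBilin m F
  have hn : 4 ≤ finrank F (Fin m ⊕ Fin m → F) := by rw [finrank_symp]; omega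
  have hlie : IsLieTypeChar p (PSp m F) :=
    Or.inr (Or.inl ⟨F, inferInstance, inferInstance, inferInstance, m, hm, h3, ⟨MulEquiv.refl _⟩⟩)
  have hfV : Finite (PSp m F) := by
    unfold PSp
    infer_instance
  have hsimp : IsSimpleGroup (PSp m F) := H400.LieSimple.isSimple_of_lie hlie
  have hS : FixBN.HasSplit p (PSp m F) := H27.AH.hasSplit_of_ab (H716.SplitAb.hasSplitAb_of_lie hp.out hlie)
  obtain ⟨v, w, hvw, hvw0⟩ := exists_pair hB hn
  -- the element moving `w`
  have hvw' : LinearIndependent F ![v, w + v] := by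
    rw [LinearIndependent.pair_iff] at hvw ⊢
    intro s t hst
    have h1 := hvw (s + t) t (by rw [add_smul, ← hst, smul_add]; abel)
    exact ⟨by rw [h1.2, add_zero] at h1; exact h1.1, h1.2⟩
  obtain ⟨g, hg, hgv, hgw⟩ := witt_pair hB hvw hvw' (by rw [hvw0, map_add, hvw0, hB.alt, add_zero])
  let g0 : Gm m F := ⟨g, hg⟩
  have hg0 : orderOf g0 ≠ 0 := (orderOf_pos g0).ne'
  obtain ⟨e, k, hk, hek⟩ := Nat.exists_eq_pow_mul_and_not_dvd hg0 p hp.out.ne_one
  have hpow : ∀ n : ℕ, (g0 ^ n).1 v = v ∧ (g0 ^ n).1 w = w + (n : F) • v := by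
    intro n
    induction n with
    | zero => exact ⟨rfl, by simp⟩
    | succ n ih =>
      have h1 : ∀ u, (g0 ^ (n + 1)).1 u = (g0 ^ n).1 (g0.1 u) := fun u => by rw [pow_succ]; rfl
      refine ⟨?_, ?_⟩
      · rw [h1]
        change (g0 ^ n).1 (g v) = v
        rw [hgv, ih.1]
      · rw [h1]
        change (g0 ^ n).1 (g w) = _
        rw [hgw, map_add, ih.1, ih.2, Nat.cast_succ, add_smul, one_smul, add_assoc]
  let H : Subgroup (Gm m F) :=
    { carrier := {x | x.1 v = v ∧ x.1 w = w}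
      mul_mem' := by
        rintro x y ⟨h1, h2⟩ ⟨h3, h4⟩
        refine ⟨?_, ?_⟩
        · change x.1 (y.1 v) = v
          rw [h3, h1]
        · change x.1 (y.1 w) = w
          rw [h4, h2]
      one_mem' := ⟨rfl, rfl⟩
      inv_mem' := by
        rintro x ⟨h1, h2⟩
        refine ⟨?_, ?_⟩
        · change x.1.symm v = v
          rw [LinearEquiv.symm_apply_eq, h1]
        · change x.1.symm w = w
          rw [LinearEquiv.symm_apply_eq, h2] }
  have hH : ∀ x : Gm m F, x ∈ H ↔ x.1 v = v ∧ x.1 w = w := fun x => Iff.rfl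
  have hv0 : v ≠ 0 := by
    intro h0
    have := (LinearIndependent.pair_iff.1 hvw) 1 0 (by rw [h0]; simp)
    exact one_ne_zero this.1
  refine H330.ClassSub.notA_of_linear (Γ := Gm m F) (π := pj m F) hS pj_surj pj_ker (pj_ker_card (by omega))
    (H := H) (g := g0 ^ k) ?_ ⟨e, ?_⟩ ?_ ?_
  · intro hmem
    have h1 := ((hH _).1 hmem).2
    rw [(hpow k).2] at h1
    have h2 : (k : F) • v = 0 := by
      have : w + (k : F) • v = w + 0 := by rw [h1, add_zero]
      exact add_left_cancel this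
    rcases smul_eq_zero.1 h2 with h3 | h3
    · exact hk ((CharP.cast_eq_zero_iff F p _).1 h3)
    · exact hv0 h3
  · rw [← pow_mul, mul_comm, ← hek, pow_orderOf_eq_one]
  · intro x hx
    obtain ⟨h1, h2⟩ := (hH x).1 hx
    have h4 : ((g0 ^ k)⁻¹).1 v = v := by
      change (g0 ^ k).1.symm v = v
      rw [LinearEquiv.symm_apply_eq, (hpow k).1]
    have h5 : ((g0 ^ k)⁻¹).1 w = w - (k : F) • v := by
      change (g0 ^ k).1.symm w = _
      rw [LinearEquiv.symm_apply_eq, map_sub, map_smul, (hpow k).1, (hpow k).2, add_sub_cancel_right]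
    rw [hH]
    refine ⟨?_, ?_⟩
    · change (g0 ^ k).1 (x.1 (((g0 ^ k)⁻¹).1 v)) = v
      rw [h4, h1, (hpow k).1]
    · change (g0 ^ k).1 (x.1 (((g0 ^ k)⁻¹).1 w)) = w
      rw [h5, map_sub, map_smul, h1, h2, map_sub, map_smul, (hpow k).1, (hpow k).2, add_sub_cancel_right]
  · intro a ha hpa X hX hXa
    obtain ⟨v', w', h1, h2, h4, h5⟩ := exists_ti (p := p) hB hn (a := a) (N := orderOf a) ha
      (congrArg Subtype.val (pow_orderOf_eq_one a)) (fun h => hpa (pj_eq_one_iff.2 h)) hX hXa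
    obtain ⟨k', hk', h6, h7⟩ := witt_pair hB h1 hvw (by rw [h2, hvw0])
    refine ⟨⟨k', hk'⟩, fun x hx => ?_⟩
    rw [hH]
    refine ⟨?_, ?_⟩
    · change k' (x.1 (k'.symm v)) = v
      rw [← h6, LinearEquiv.symm_apply_apply, h4 x hx]
    · change k' (x.1 (k'.symm w)) = w
      rw [← h7, LinearEquiv.symm_apply_apply, h5 x hx]

end Cfsg.Agent.H144.AH
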