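import Cfsg.Agent.H144.AH.OddB
import Cfsg.Agent.H144.AH.PSpA

/-!
# S2451 (C) for `PSp_2m(q)` (helper144)

`notC_psp` : there are no `a, b, c ≠ 1` in `PSp_2m(q)`, `c` a `p`-element, such that all products of conjugates of `a` and
`b` are conjugate to `c`. `psp_row` : both rows.
-/

set_option autoImplicit false
set_option linter.unusedSectionVars false

namespace Cfsg.Agent.H144.AH

open Module Cfsg Cfsg.Agent.H955 Cfsg.Agent.H105.Sz Cfsg.Agent.H105.SzSp
open Cfsg.Agent.ClassicalGeometry.SympBasic Cfsg.Agent.LieClassical.OrthFinite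
open Cfsg.Agent.H330.ClassProd

theorem eq_one_or_neg_of_isom {F V : Type*} [Field F] [AddCommGroup V] [Module F V] [Nontrivial V]
    {B : LinearMap.BilinForm F V} (h : IsSp B) {z : V ≃ₗ[F] V} (hz : z ∈ IsoB B) {c : F} (hc : ∀ v, z v = c • v) :
    c = 1 ∨ c = -1 := by
  obtain ⟨v, hv⟩ := exists_ne (0 : V)
  obtain ⟨w, hw⟩ : ∃ w, B v w ≠ 0 := by
    by_contra hcon
    push Not at hcon
    exact hv (h.nd v hcon)
  have h1 := hz v w
  rw [hc, hc, map_smul, map_smul, LinearMap.smul_apply, smul_eq_mul, smul_eq_mul] at h1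
  have h2 : (c * c - 1) * B v w = 0 := by linear_combination h1
  exact mul_self_eq_one_iff.1 (sub_eq_zero.1 ((mul_eq_zero.1 h2).resolve_right hw))

/-- the linear hypothesis -/
theorem hp_of_allConj {p : ℕ} [hp : Fact p.Prime] {F : Type} [Field F] [Finite F] {m : ℕ}
    (hm : 2 ≤ m) {a b : Gm m F} (ha : pj m F a ≠ 1) (hb : pj m F b ≠ 1) {c : PSp m F} (hab : AllConj (pj m F a) (pj m F b) c)
    {k : ℕ} (hk : orderOf c = p ^ k) : Hp (sympBilin m F) p a.1 b.1 where
  ha := a.2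
  hb := b.2
  na := fun h => ha (pj_eq_one_iff.2 h)
  nb := fun h => hb (pj_eq_one_iff.2 h)
  uni := by
    intro g hg
    have hB : IsSp (F := F) (V := Fin m ⊕ Fin m → F) (sympBilin m F) := isSp_sympBilin m F
    have hnt : Nontrivial (Fin m ⊕ Fin m → F) := Module.nontrivial_of_finrank_pos (R := F) (by
      rw [finrank_symp]; omega)
    let z : Gm m F := a * (⟨g, hg⟩ * b * ⟨g, hg⟩⁻¹)
    have h1 := hab 1 (pj m F ⟨g, hg⟩)
    have h2 : 1 * pj m F a * 1⁻¹ * (pj m F ⟨g, hg⟩ * pj m F b * (pj m F ⟨g, hg⟩)⁻¹) = pj m F z := by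
      simp only [z, map_mul, map_inv, one_mul, inv_one, mul_one]
    rw [h2] at h1
    have h3 : (pj m F z) ^ p ^ k = 1 := by
      rw [← hk, ← orderOf_of_isConj h1, pow_orderOf_eq_one]
    rw [← map_pow, pj_eq_one_iff] at h3
    obtain ⟨e, he⟩ := h3
    exact ⟨e, eq_one_or_neg_of_isom hB (z ^ p ^ k).2 he, k, he⟩

theorem notC_psp {p : ℕ} [hp : Fact p.Prime] (F : Type) [Field F] [Fintype F] [CharP F p] (m : ℕ) (hm : 2 ≤ m)
    (h3 : m = 2 → 3 ≤ Fintype.card F) : H27.AH.NotC p (PSp m F) := by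
  have hB : IsSp (F := F) (V := Fin m ⊕ Fin m → F) (sympBilin m F) := isSp_sympBilin m F
  have hn : 4 ≤ finrank F (Fin m ⊕ Fin m → F) := by rw [finrank_symp]; omega
  have hnt : Nontrivial (Fin m ⊕ Fin m → F) := Module.nontrivial_of_finrank_pos (R := F) (by omega)
  have hlie : IsLieTypeChar p (PSp m F) :=
    Or.inr (Or.inl ⟨F, inferInstance, inferInstance, inferInstance, m, hm, h3, ⟨MulEquiv.refl _⟩⟩)
  have hfV : Finite (PSp m F) := by
    unfold PSp
    infer_instance
  have hsimp : IsSimpleGroup (PSp m F) := H400.LieSimple.isSimple_of_lie hlie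
  rintro a b c ha hb hc hab ⟨k, hk⟩
  obtain ⟨a, rfl⟩ := pj_surj a
  obtain ⟨b, rfl⟩ := pj_surj b
  have H := hp_of_allConj hm ha hb hab hk
  by_cases h2 : (2 : F) = 0
  swap
  · exact odd_main hB hn H h2
  obtain ⟨haa, hbb, g, hg, hcomm⟩ := even_main hB hn H h2
  have haa' : a * a = 1 := Subtype.ext (LinearEquiv.ext haa)
  have hbb' : b * b = 1 := Subtype.ext (LinearEquiv.ext hbb)
  let g' : Gm m F := ⟨g, hg⟩
  have hcomm' : a * (g' * b * g'⁻¹) = (g' * b * g'⁻¹) * a := Subtype.ext (LinearEquiv.ext hcomm)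
  -- `c² = 1`
  have hinv : ∀ x : PSp m F, (x * pj m F b * x⁻¹) * (x * pj m F b * x⁻¹) = 1 := by
    intro x
    have e : pj m F b * pj m F b = 1 := by rw [← map_mul, hbb', map_one]
    calc (x * pj m F b * x⁻¹) * (x * pj m F b * x⁻¹) = x * (pj m F b * pj m F b) * x⁻¹ := by group
      _ = 1 := by rw [e, mul_one, mul_inv_cancel]
  have hA : pj m F a * pj m F a = 1 := by rw [← map_mul, haa', map_one]
  have hcc : c ^ 2 = 1 := by
    have h4 := hab 1 (pj m F g')
    rw [one_mul, inv_one, mul_one] at h4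
    have h5 : (pj m F a * (pj m F g' * pj m F b * (pj m F g')⁻¹)) ^ 2 = 1 := by
      have h6 : pj m F a * (pj m F g' * pj m F b * (pj m F g')⁻¹) = (pj m F g' * pj m F b * (pj m F g')⁻¹) * pj m F a := by
        have := congrArg (pj m F) hcomm'
        simpa only [map_mul, map_inv] using this
      have h7 := hinv (pj m F g')
      rw [pow_two]
      calc pj m F a * (pj m F g' * pj m F b * (pj m F g')⁻¹) * (pj m F a * (pj m F g' * pj m F b * (pj m F g')⁻¹)) =
          pj m F a * ((pj m F g' * pj m F b * (pj m F g')⁻¹) * pj m F a) * (pj m F g' * pj m F b * (pj m F g')⁻¹) := by group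
        _ = (pj m F a * pj m F a) * ((pj m F g' * pj m F b * (pj m F g')⁻¹) * (pj m F g' * pj m F b * (pj m F g')⁻¹)) := by
          rw [← h6]; group
        _ = 1 := by rw [hA, h7, mul_one]
    have h6 := orderOf_of_isConj h4
    rw [← orderOf_dvd_iff_pow_eq_one] at h5 ⊢
    rwa [← h6]
  -- `a` commutes with all the conjugates of `b`
  have hall : ∀ x : PSp m F, (x * pj m F b * x⁻¹) * pj m F a = pj m F a * (x * pj m F b * x⁻¹) := by
    intro x
    have h4 := hab 1 x
    rw [one_mul, inv_one, mul_one] at h4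
    have h5 : (pj m F a * (x * pj m F b * x⁻¹)) ^ 2 = 1 := by
      rw [← orderOf_dvd_iff_pow_eq_one, orderOf_of_isConj h4, orderOf_dvd_iff_pow_eq_one, hcc]
    have h6 := hinv x
    set y := x * pj m F b * x⁻¹ with hy
    have h7 : y⁻¹ = y := inv_eq_of_mul_eq_one_left h6
    have h8 : (pj m F a)⁻¹ = pj m F a := inv_eq_of_mul_eq_one_left hA
    have h9 : (pj m F a * y)⁻¹ = pj m F a * y := inv_eq_of_mul_eq_one_left (by rw [← pow_two, h5])
    rw [mul_inv_rev, h7, h8] at h9
    exact h9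
  have hle : Subgroup.normalClosure {pj m F b} ≤ Subgroup.centralizer {pj m F a} := by
    rw [Subgroup.normalClosure, Subgroup.closure_le]
    intro y hy
    obtain ⟨z, hz, hzy⟩ := Group.mem_conjugatesOfSet_iff.1 hy
    rw [Set.mem_singleton_iff] at hz
    subst hz
    obtain ⟨x, hx⟩ := isConj_iff.1 hzy
    rw [SetLike.mem_coe, Subgroup.mem_centralizer_singleton_iff, ← hx]
    exact hall x
  have htop : Subgroup.normalClosure {pj m F b} = ⊤ := by
    rcases (Subgroup.normalClosure_normal (s := {pj m F b})).eq_bot_or_eq_top with h4 | h4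
    · exfalso
      have h5 : pj m F b ∈ Subgroup.normalClosure {pj m F b} := Subgroup.subset_normalClosure rfl
      rw [h4, Subgroup.mem_bot] at h5
      exact hb h5
    · exact h4
  rw [htop] at hle
  -- so `a` is central
  apply H.na
  apply scalar_of_comm hB
  intro x hx v
  have h4 : pj m F ⟨x, hx⟩ * pj m F a = pj m F a * pj m F ⟨x, hx⟩ :=
    Subgroup.mem_centralizer_singleton_iff.1 (hle (Subgroup.mem_top _))
  have h5 : pj m F ((a * ⟨x, hx⟩) * (⟨x, hx⟩ * a)⁻¹) = 1 := by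
    rw [map_mul, map_inv, map_mul, map_mul, h4, mul_inv_cancel]
  obtain ⟨e, he⟩ := pj_eq_one_iff.1 h5
  have he1 : e = 1 := by
    rcases eq_one_or_neg_of_isom hB ((a * ⟨x, hx⟩) * (⟨x, hx⟩ * a)⁻¹ : Gm m F).2 he with h6 | h6
    · exact h6
    · rw [h6, neg_eq' h2]
  have h6 : (a * ⟨x, hx⟩) * (⟨x, hx⟩ * a)⁻¹ = (1 : Gm m F) := by
    apply Subtype.ext
    apply LinearEquiv.ext
    intro v
    rw [he, he1, one_smul]
    rfl
  have h7 : a * ⟨x, hx⟩ = (⟨x, hx⟩ : Gm m F) * a := by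
    rw [mul_inv_eq_one] at h6
    exact h6
  exact congrArg (fun g : Gm m F => g.1 v) h7

/-- **the rows (A) and (C) of S2451 for `PSp`** -/
theorem psp_row {p : ℕ} [hp : Fact p.Prime] (F : Type) [Field F] [Fintype F] [CharP F p] (m : ℕ) (hm : 2 ≤ m)
    (h3 : m = 2 → 3 ≤ Fintype.card F) : H27.AH.NotAC p (PSp m F) :=
  ⟨notA_psp F m hm h3, notC_psp F m hm h3⟩

end Cfsg.Agent.H144.AH
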